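import Cfsg.Agent.Rs.Main
import Cfsg.Agent.Rs.Z

/-! Transfer of the action along a surjection. -/

set_option autoImplicit false
open MulAction Module

namespace CF.Rs
open CF.Rq (R3)

theorem transfer {G H X : Type*} [Group G] [Group H] [MulAction G X] [Finite X] (φ : H →* G)
    (hφ : Function.Surjective φ) (pr : IsPreprimitive G X) (x : X)
    (h3 : Nat.card (orbitRel.Quotient (stabilizer G x) X) = 3) :
    letI := MulAction.compHom X φ
    R3 H X ∧ IsPreprimitive H X := by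
  let _ := MulAction.compHom X φ
  have pr' : IsPreprimitive H X :=
    (isPreprimitive_congr (φ := φ) (f := (⟨id, fun _ _ => rfl⟩ : X →ₑ[φ] X)) hφ
      Function.bijective_id).2 pr
  refine ⟨⟨inferInstance, pr'.toIsPretransitive, x, ?_⟩, pr'⟩
  rw [← h3]
  refine Nat.card_congr (Quotient.congr (Equiv.refl X) fun a b => ?_)
  simp only [orbitRel_apply, Equiv.refl_apply]
  constructor
  · rintro ⟨⟨k, hk⟩, rfl⟩
    exact ⟨⟨φ k, hk⟩, rfl⟩
  · rintro ⟨⟨k, hk⟩, rfl⟩
    obtain ⟨k, rfl⟩ := hφ k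
    exact ⟨⟨k, hk⟩, rfl⟩

end CF.Rs
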